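import Groth.Agent.DescLib.EtaleLocal
import Groth.Agent.RegLoc6.FlatDescent
import Groth.Agent.Hensel.EtaleReduced
import Mathlib.AlgebraicGeometry.Morphisms.Etale
import Mathlib.AlgebraicGeometry.Noetherian
import Mathlib.RingTheory.RegularLocalRing.Defs

/-!
# Stalks of étale morphisms: dimension, regularity, reducedness
-/

universe u

set_option autoImplicit false
set_option backward.isDefEq.respectTransparency false
set_option backward.isDefEq.respectTransparency.types false

open CategoryTheory AlgebraicGeometry IsLocalRing TensorProduct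

namespace Groth.Agent.EtStalk

theorem regular_of_flat_unramified (A B : Type u) [CommRing A] [CommRing B] [IsLocalRing A] [IsLocalRing B]
    [IsNoetherianRing A] [IsNoetherianRing B] [Algebra A B] [IsLocalHom (algebraMap A B)]
    [Module.Flat A B] [Algebra.FormallyUnramified A B] [Algebra.EssFiniteType A B]
    [IsRegularLocalRing A] : IsRegularLocalRing B := by
  have hreg := (isRegularLocalRing_iff A).1 ‹_›
  refine .of_spanFinrank_maximalIdeal_le _ ?_
  rw [Groth.Agent.DescLib.ringKrullDim_eq_of_flat_unramified A B, ← hreg,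
    ← Algebra.FormallyUnramified.map_maximalIdeal (R := A) (S := B)]
  have fg := (maximalIdeal A).fg_of_isNoetherianRing
  have fin := Submodule.FG.finite_generators fg
  conv_lhs => rw [← (maximalIdeal A).span_generators,
    show Submodule.span _ _ = Ideal.span _ from rfl, Ideal.map_span]
  exact_mod_cast (Submodule.spanFinrank_span_le_ncard_of_finite (fin.image _)).trans
    ((Set.ncard_image_le fin).trans (Submodule.FG.generators_ncard fg).le)

variable {X Y : Scheme.{u}} (f : X ⟶ Y) [AlgebraicGeometry.Etale f] [IsLocallyNoetherian Y] (x : X)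

theorem ringKrullDim_stalk :
    ringKrullDim (X.presheaf.stalk x) = ringKrullDim (Y.presheaf.stalk (f.base x)) := by
  have := LocallyOfFiniteType.isLocallyNoetherian f
  algebraize [(f.stalkMap x).hom]
  have : IsLocalHom (algebraMap (Y.presheaf.stalk (f x)) (X.presheaf.stalk x)) := f.toLRSHom.prop x
  have : Module.Flat (Y.presheaf.stalk (f x)) (X.presheaf.stalk x) := Flat.stalkMap f x
  have : Algebra.FormallyUnramified (Y.presheaf.stalk (f x)) (X.presheaf.stalk x) :=
    FormallyUnramified.stalkMap (f := f) x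
  have : Algebra.EssFiniteType (Y.presheaf.stalk (f x)) (X.presheaf.stalk x) :=
    LocallyOfFiniteType.stalkMap f x
  exact Groth.Agent.DescLib.ringKrullDim_eq_of_flat_unramified _ _

theorem regular_stalk_iff :
    IsRegularLocalRing (X.presheaf.stalk x) ↔ IsRegularLocalRing (Y.presheaf.stalk (f.base x)) := by
  have := LocallyOfFiniteType.isLocallyNoetherian f
  algebraize [(f.stalkMap x).hom]
  have : IsLocalHom (algebraMap (Y.presheaf.stalk (f x)) (X.presheaf.stalk x)) := f.toLRSHom.prop x
  have : Module.Flat (Y.presheaf.stalk (f x)) (X.presheaf.stalk x) := Flat.stalkMap f x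
  have : Algebra.FormallyUnramified (Y.presheaf.stalk (f x)) (X.presheaf.stalk x) :=
    FormallyUnramified.stalkMap (f := f) x
  have : Algebra.EssFiniteType (Y.presheaf.stalk (f x)) (X.presheaf.stalk x) :=
    LocallyOfFiniteType.stalkMap f x
  constructor
  · intro h
    exact Groth.Agent.RegLoc6.isRegularLocalRing_of_flat (A := Y.presheaf.stalk (f x)) (B := X.presheaf.stalk x)
  · intro h
    exact regular_of_flat_unramified (Y.presheaf.stalk (f x)) (X.presheaf.stalk x)

theorem isReduced_localization {A B : Type u} [CommRing A] [CommRing B] [Algebra A B] [Algebra.Etale A B]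
    (Q : Ideal B) [Q.IsPrime] [_root_.IsReduced (Localization.AtPrime (Q.under A))] :
    _root_.IsReduced (Localization.AtPrime Q) := by
  let L := Localization.AtPrime (Q.under A)
  haveI : _root_.IsReduced (L ⊗[A] B) := Groth.Agent.Hensel.isReduced_of_etale L (L ⊗[A] B)
  refine ⟨fun z ⟨n, hn⟩ => ?_⟩
  obtain ⟨b, s, rfl⟩ := IsLocalization.exists_mk'_eq Q.primeCompl z
  rw [← IsLocalization.mk'_pow, IsLocalization.mk'_eq_zero_iff] at hn
  obtain ⟨t, ht⟩ := hn
  have h1 : IsNilpotent ((1 : L) ⊗ₜ[A] ((t : B) * b)) := by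
    refine ⟨n + 1, ?_⟩
    rw [Algebra.TensorProduct.tmul_pow, one_pow, mul_pow,
      show (t : B) ^ (n + 1) * b ^ (n + 1) = (t : B) ^ n * b * ((t : B) * b ^ n) by ring, ht, mul_zero,
      TensorProduct.tmul_zero]
  obtain ⟨⟨a, ha⟩, hab⟩ := (IsLocalizedModule.eq_zero_iff (Q.under A).primeCompl
    (TensorProduct.mk A L B 1)).1 h1.eq_zero
  rw [IsLocalization.mk'_eq_zero_iff]
  refine ⟨⟨algebraMap A B a, ha⟩ * t, ?_⟩
  rw [Submonoid.coe_mul, mul_assoc]
  rw [← Algebra.smul_def]
  exact hab

theorem reduced_stalk_iff :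
    _root_.IsReduced (X.presheaf.stalk x) ↔ _root_.IsReduced (Y.presheaf.stalk (f.base x)) := by
  constructor
  · intro h
    algebraize [(f.stalkMap x).hom]
    have : IsLocalHom (algebraMap (Y.presheaf.stalk (f x)) (X.presheaf.stalk x)) := f.toLRSHom.prop x
    have : Module.Flat (Y.presheaf.stalk (f x)) (X.presheaf.stalk x) := Flat.stalkMap f x
    have : Module.FaithfullyFlat (Y.presheaf.stalk (f x)) (X.presheaf.stalk x) :=
      Module.FaithfullyFlat.of_flat_of_isLocalHom
    exact isReduced_of_injective (algebraMap (Y.presheaf.stalk (f x)) (X.presheaf.stalk x))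
      (FaithfulSMul.algebraMap_injective _ _)
  · intro h
    obtain ⟨A, hA, hwA, -⟩ := exists_isAffineOpen_mem_and_subset (U := (⊤ : Y.Opens)) (x := f x) trivial
    obtain ⟨B, hB, hwB, hBA⟩ := exists_isAffineOpen_mem_and_subset (U := f ⁻¹ᵁ A) (x := x) hwA
    have he : (f.appLE A B hBA).hom.Etale :=
      HasRingHomProperty.appLE (P := @AlgebraicGeometry.Etale) f ‹_› ⟨A, hA⟩ ⟨B, hB⟩ hBA
    let _ := (f.appLE A B hBA).hom.toAlgebra
    have : Algebra.Etale Γ(Y, A) Γ(X, B) := he
    let _ := TopCat.Presheaf.algebra_section_stalk Y.presheaf ⟨f x, hwA⟩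
    have := hA.isLocalization_stalk ⟨f x, hwA⟩
    let _ := TopCat.Presheaf.algebra_section_stalk X.presheaf ⟨x, hwB⟩
    have := hB.isLocalization_stalk ⟨x, hwB⟩
    have hp : (hB.primeIdealOf ⟨x, hwB⟩).asIdeal.under Γ(Y, A) = (hA.primeIdealOf ⟨f x, hwA⟩).asIdeal :=
      congrArg PrimeSpectrum.asIdeal (IsAffineOpen.comap_primeIdealOf_appLE A hA B hB hBA hwB)
    have h1 : _root_.IsReduced (Localization.AtPrime ((hB.primeIdealOf ⟨x, hwB⟩).asIdeal.under Γ(Y, A))) := by
      have e : _root_.IsReduced (Localization.AtPrime (hA.primeIdealOf ⟨f x, hwA⟩).asIdeal) :=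
        isReduced_of_injective (IsLocalization.algEquiv (hA.primeIdealOf ⟨f x, hwA⟩).asIdeal.primeCompl
          (Localization.AtPrime _) (Y.presheaf.stalk (f x))) (AlgEquiv.injective _)
      convert e
    have h2 := isReduced_localization (A := Γ(Y, A)) (hB.primeIdealOf ⟨x, hwB⟩).asIdeal
    exact isReduced_of_injective (IsLocalization.algEquiv (hB.primeIdealOf ⟨x, hwB⟩).asIdeal.primeCompl
        (X.presheaf.stalk x) (Localization.AtPrime (hB.primeIdealOf ⟨x, hwB⟩).asIdeal)) (AlgEquiv.injective _)

end Groth.Agent.EtStalk
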