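import Groth.Agent.EtStalk.Basic
import Groth.Agent.WEtLib.Normal
import Groth.Agent.WEtLib.Vnr
import Groth.Agent.WLocalLib.WEtale
import Groth.Agent.Hensel.HenselizationNormal

/-!
# Normality and étale morphisms
-/

universe u

set_option autoImplicit false
set_option backward.isDefEq.respectTransparency false
set_option backward.isDefEq.respectTransparency.types false

open CategoryTheory AlgebraicGeometry TensorProduct

namespace Groth.Agent.EtStalk

/-- A local ring integrally closed in a von Neumann regular extension is a normal domain. -/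
theorem normal_of_closedIn_vnr (B L : Type u) [CommRing B] [IsLocalRing B] [CommRing L] [Algebra B L]
    [IsIntegrallyClosedIn B L] (hv : ∀ z : L, ∃ c, z = z * z * c) : IsDomain B ∧ IsIntegrallyClosed B := by
  obtain ⟨hinj, hint⟩ := isIntegrallyClosedIn_iff.1 ‹IsIntegrallyClosedIn B L›
  haveI : Nontrivial L := hinj.nontrivial
  have hfield : ∀ z : L, z ≠ 0 → IsUnit z := fun z hz => by
    obtain ⟨c, hc⟩ := hv z
    have he : IsIdempotentElem (z * c) := by
      show z * c * (z * c) = z * c
      linear_combination (-c) * hc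
    obtain ⟨b, hb⟩ := hint (x := z * c) ⟨Polynomial.X ^ 2 - Polynomial.X,
      by monicity!, by simp [Polynomial.eval₂_sub, sq, he.eq]⟩
    have hb' : b * b = b := hinj (by rw [map_mul, hb, he.eq])
    rcases IsLocalRing.isUnit_or_isUnit_one_sub_self b with h | h
    · have : b = 1 := h.mul_left_cancel (hb'.trans (mul_one b).symm)
      rw [this, map_one] at hb
      exact IsUnit.of_mul_eq_one _ hb.symm
    · have : b = 0 := by
        refine h.mul_left_cancel (?_ : (1 - b) * b = (1 - b) * 0)
        rw [sub_mul, one_mul, hb', sub_self, mul_zero]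
      rw [this, map_zero] at hb
      exact absurd (hc.trans (by rw [mul_assoc, ← hb, mul_zero])) hz
  letI : Field L := (show IsField L from ⟨⟨0, 1, zero_ne_one⟩, mul_comm, fun {a} ha => (hfield a ha).exists_right_inv⟩).toField
  haveI : IsDomain B := hinj.isDomain _
  refine ⟨inferInstance, (isIntegrallyClosed_iff (FractionRing B)).2 fun {x} hx => ?_⟩
  let j : FractionRing B →+* L := IsFractionRing.lift (A := B) (g := algebraMap B L) hinj
  obtain ⟨b, hb⟩ := hint (x := j x) (by
    obtain ⟨p, hp, hpx⟩ := hx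
    refine ⟨p, hp, ?_⟩
    rw [show algebraMap B L = j.comp (algebraMap B (FractionRing B)) from
      RingHom.ext fun r => (IsFractionRing.lift_algebraMap hinj r).symm, ← Polynomial.hom_eval₂, hpx, map_zero])
  exact ⟨b, j.injective ((IsFractionRing.lift_algebraMap hinj b).trans hb)⟩

theorem field_vnr {K : Type u} [Field K] (a : K) : ∃ r, a = a * a * r := by
  rcases eq_or_ne a 0 with h | h
  · exact ⟨0, by simp [h]⟩
  · exact ⟨a⁻¹, by rw [mul_assoc, mul_inv_cancel₀ h, mul_one]⟩

/-- A local weakly étale algebra over a normal domain is a normal domain. -/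
theorem normal_of_weaklyEtale_local (A B : Type u) [CommRing A] [CommRing B] [IsDomain A]
    [IsIntegrallyClosed A] [IsLocalRing B] [Algebra A B] [Algebra.WeaklyEtale A B] :
    IsDomain B ∧ IsIntegrallyClosed B := by
  haveI := Groth.Agent.WEtLib.isIntegrallyClosedIn_tensor (A := A) (FractionRing A) B
  refine normal_of_closedIn_vnr B (B ⊗[A] FractionRing A) fun z => ?_
  obtain ⟨c, hc⟩ := Groth.Agent.WEtLib.exists_mul_eq_of_vnr (R := FractionRing A) field_vnr
    ((Algebra.TensorProduct.comm A B (FractionRing A)) z)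
  refine ⟨(Algebra.TensorProduct.comm A B (FractionRing A)).symm c,
    (Algebra.TensorProduct.comm A B (FractionRing A)).injective ?_⟩
  simp only [map_mul, AlgEquiv.apply_symm_apply]
  exact hc

variable {X Y : Scheme.{u}} (f : X ⟶ Y) [AlgebraicGeometry.Etale f] (x : X)

theorem normal_stalk_iff :
    (IsDomain (X.presheaf.stalk x) ∧ IsIntegrallyClosed (X.presheaf.stalk x)) ↔
      (IsDomain (Y.presheaf.stalk (f.base x)) ∧ IsIntegrallyClosed (Y.presheaf.stalk (f.base x))) := by
  let φ := (f.stalkMap x).hom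
  letI : Algebra (Y.presheaf.stalk (f x)) (X.presheaf.stalk x) := φ.toAlgebra
  haveI : IsLocalHom (algebraMap (Y.presheaf.stalk (f x)) (X.presheaf.stalk x)) := f.toLRSHom.prop x
  haveI : Module.Flat (Y.presheaf.stalk (f x)) (X.presheaf.stalk x) := Flat.stalkMap f x
  haveI : Module.FaithfullyFlat (Y.presheaf.stalk (f x)) (X.presheaf.stalk x) :=
    Module.FaithfullyFlat.of_flat_of_isLocalHom
  constructor
  · rintro ⟨h1, h2⟩
    exact Groth.Agent.Hensel.isIntegrallyClosed_of_faithfullyFlat (Y.presheaf.stalk (f x)) (X.presheaf.stalk x)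
  · rintro ⟨h1, h2⟩
    obtain ⟨A, hA, hwA, -⟩ := exists_isAffineOpen_mem_and_subset (U := (⊤ : Y.Opens)) (x := f x) trivial
    obtain ⟨B, hB, hwB, hBA⟩ := exists_isAffineOpen_mem_and_subset (U := f ⁻¹ᵁ A) (x := x) hwA
    have he : (f.appLE A B hBA).hom.Etale :=
      HasRingHomProperty.appLE (P := @AlgebraicGeometry.Etale) f ‹_› ⟨A, hA⟩ ⟨B, hB⟩ hBA
    letI := (f.appLE A B hBA).hom.toAlgebra
    haveI : Algebra.Etale Γ(Y, A) Γ(X, B) := he
    letI := TopCat.Presheaf.algebra_section_stalk Y.presheaf ⟨f x, hwA⟩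
    haveI := hA.isLocalization_stalk ⟨f x, hwA⟩
    letI := TopCat.Presheaf.algebra_section_stalk X.presheaf ⟨x, hwB⟩
    haveI := hB.isLocalization_stalk ⟨x, hwB⟩
    letI : Algebra Γ(Y, A) (X.presheaf.stalk x) :=
      ((algebraMap Γ(X, B) (X.presheaf.stalk x)).comp (algebraMap Γ(Y, A) Γ(X, B))).toAlgebra
    haveI : IsScalarTower Γ(Y, A) Γ(X, B) (X.presheaf.stalk x) := IsScalarTower.of_algebraMap_eq fun _ => rfl
    haveI : IsScalarTower Γ(Y, A) (Y.presheaf.stalk (f x)) (X.presheaf.stalk x) :=
      IsScalarTower.of_algebraMap_eq fun a => by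
        show (X.presheaf.germ B x hwB).hom ((f.appLE A B hBA).hom a) =
          (f.stalkMap x).hom ((Y.presheaf.germ A (f x) hwA).hom a)
        rw [Scheme.Hom.appLE, CommRingCat.hom_comp, RingHom.comp_apply]
        rw [TopCat.Presheaf.germ_res_apply]
        exact (Scheme.Hom.germ_stalkMap_apply f A x hwA a).symm
    haveI := Groth.Agent.WLocalLib.weaklyEtale_localization
      (hB.primeIdealOf ⟨x, hwB⟩).asIdeal.primeCompl (X.presheaf.stalk x)
    haveI hwe : Algebra.WeaklyEtale Γ(Y, A) (X.presheaf.stalk x) :=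
      Algebra.WeaklyEtale.trans Γ(Y, A) Γ(X, B) (X.presheaf.stalk x)
    haveI := IsLocalization.tensorProduct_compatibleSMul (hA.primeIdealOf ⟨f x, hwA⟩).asIdeal.primeCompl
      (Y.presheaf.stalk (f x)) (X.presheaf.stalk x) (X.presheaf.stalk x)
    haveI : Algebra.WeaklyEtale (Y.presheaf.stalk (f x)) (X.presheaf.stalk x) := by
      refine { flat := inferInstance, flat_lmul' := ?_ }
      let e := Algebra.TensorProduct.equivOfCompatibleSMul Γ(Y, A) (Y.presheaf.stalk (f x))
        (Y.presheaf.stalk (f x)) (X.presheaf.stalk x) (X.presheaf.stalk x)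
      have h := RingHom.Flat.comp (f := e.toAlgHom.toRingHom) (RingHom.Flat.of_bijective e.bijective)
        (g := (Algebra.TensorProduct.lmul' Γ(Y, A) (S := X.presheaf.stalk x)).toRingHom)
        (Algebra.WeaklyEtale.flat_lmul' Γ(Y, A) (X.presheaf.stalk x))
      show (Algebra.TensorProduct.lmul' (Y.presheaf.stalk (f x)) (S := X.presheaf.stalk x)).toRingHom.Flat
      convert h using 1
      refine RingHom.ext fun z => ?_
      induction z with
      | zero => simp
      | add a b ha hb => simp only [map_add, ha, hb]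
      | tmul a b =>
        show Algebra.TensorProduct.lmul' (Y.presheaf.stalk (f x)) (a ⊗ₜ[Y.presheaf.stalk (f x)] b) =
          Algebra.TensorProduct.lmul' Γ(Y, A) (a ⊗ₜ[Γ(Y, A)] b)
        simp
    exact normal_of_weaklyEtale_local (Y.presheaf.stalk (f x)) (X.presheaf.stalk x)

end Groth.Agent.EtStalk
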